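import Mathlib
import Cfsg.Agent.Lib.Helper48.FrakL.Defs

set_option autoImplicit false

/-!
Package C of S2863 (statements in `Cfsg.Agent.Lib.Helper48.FrakL.Defs`):
* `sl2TraceTwo`: an element of trace 2 of `SL₂(F)`, `F` of characteristic `p`, has `g ^ p = 1`;
* `sl2PGroupConj`: a `p`-subgroup of `SL₂(F)`, `F` finite of characteristic `p`, is conjugate
  into the upper unitriangular group.
-/

namespace Cfsg.Agent.Lib.Helper77.FrakL

open Cfsg.Agent.Lib.Helper48.FrakL

universe u

theorem sl2TraceTwo : SL2TraceTwo.{u} := by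
  intro F _ p _ _ g hg
  apply Subtype.ext
  rw [Matrix.SpecialLinearGroup.coe_pow, Matrix.SpecialLinearGroup.coe_one]
  have hdet' := g.det_coe
  rw [Matrix.det_fin_two] at hdet'
  generalize (g : Matrix (Fin 2) (Fin 2) F) = M at hg hdet' ⊢
  have hsq : (M - 1) ^ 2 = 0 := by
    ext i j
    fin_cases i <;> fin_cases j
    · simp [pow_two, Matrix.mul_apply, Fin.sum_univ_two]
      linear_combination (M 0 0) * hg - hdet'
    · simp [pow_two, Matrix.mul_apply, Fin.sum_univ_two]
      linear_combination (M 0 1) * hg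
    · simp [pow_two, Matrix.mul_apply, Fin.sum_univ_two]
      linear_combination (M 1 0) * hg
    · simp [pow_two, Matrix.mul_apply, Fin.sum_univ_two]
      linear_combination (M 1 1) * hg - hdet'
  have hp2 : 2 ≤ p := (Fact.out : p.Prime).two_le
  have hpz : (M - 1) ^ p = 0 := by
    obtain ⟨k, rfl⟩ := Nat.exists_eq_add_of_le hp2
    rw [pow_add, hsq, zero_mul]
  have hcomm : Commute M 1 := Commute.one_right M
  rw [sub_pow_char_of_commute p hcomm, one_pow, sub_eq_zero] at hpz
  exact hpz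

theorem sl2PGroupConj : SL2PGroupConj.{u} := by
  intro F _ _ p _ _ P hP
  classical
  let act : MulAction P (Fin 2 → F) :=
    { smul := fun g v => (g.1 : Matrix (Fin 2) (Fin 2) F).mulVec v
      one_smul := fun v => by
        show ((1 : P).1 : Matrix (Fin 2) (Fin 2) F).mulVec v = v
        simp
      mul_smul := fun g h v => by
        show ((g * h).1 : Matrix (Fin 2) (Fin 2) F).mulVec v
          = (g.1 : Matrix (Fin 2) (Fin 2) F).mulVec ((h.1 : Matrix (Fin 2) (Fin 2) F).mulVec v)
        rw [Subgroup.coe_mul, Matrix.SpecialLinearGroup.coe_mul, Matrix.mulVec_mulVec] }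
  have hsmul : ∀ (g : P) (v : Fin 2 → F), g • v = (g.1 : Matrix (Fin 2) (Fin 2) F).mulVec v :=
    fun _ _ => rfl
  have hcard : p ∣ Nat.card (Fin 2 → F) := by
    have : Fintype F := Fintype.ofFinite F
    have h1 : p ∣ Fintype.card F :=
      (CharP.cast_eq_zero_iff F p (Fintype.card F)).mp (Nat.cast_card_eq_zero F)
    rw [Nat.card_eq_fintype_card, Fintype.card_fun, Fintype.card_fin]
    exact dvd_pow h1 (by norm_num)
  have h0 : (0 : Fin 2 → F) ∈ MulAction.fixedPoints P (Fin 2 → F) := by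
    intro g
    rw [hsmul]
    simp
  obtain ⟨e, he, hne⟩ :=
    hP.exists_fixed_point_of_prime_dvd_card_of_fixed_point (Fin 2 → F) hcard h0
  have hfix : ∀ g ∈ P, (g : Matrix (Fin 2) (Fin 2) F).mulVec e = e := fun g hg => he ⟨g, hg⟩
  obtain ⟨k, hk⟩ : ∃ k : Matrix.SpecialLinearGroup (Fin 2) F,
      (k : Matrix (Fin 2) (Fin 2) F).mulVec e = ![1, 0] := by
    by_cases h0 : e 0 = 0
    · have h1 : e 1 ≠ 0 := by
        intro h1
        apply hne
        ext i
        fin_cases i <;> simp [h0, h1]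
      refine ⟨⟨!![0, (e 1)⁻¹; -(e 1), 0], by simp [Matrix.det_fin_two_of, h1]⟩, ?_⟩
      ext i
      fin_cases i <;> simp [Matrix.mulVec, dotProduct, Fin.sum_univ_two, h0, h1]
    · refine ⟨⟨!![(e 0)⁻¹, 0; -(e 1), e 0], by simp [Matrix.det_fin_two_of, h0]⟩, ?_⟩
      ext i
      fin_cases i
      · simp [Matrix.mulVec, dotProduct, Fin.sum_univ_two, h0]
      · simp [Matrix.mulVec, dotProduct, Fin.sum_univ_two]
        ring
  refine ⟨k, fun g hg => ?_⟩
  generalize hh : k * g * k⁻¹ = h
  have hfix1 : (h : Matrix (Fin 2) (Fin 2) F).mulVec ![1, 0] = ![1, 0] := by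
    have hhk : h * k = k * g := by rw [← hh]; group
    rw [← hk, Matrix.mulVec_mulVec, ← Matrix.SpecialLinearGroup.coe_mul, hhk,
      Matrix.SpecialLinearGroup.coe_mul, ← Matrix.mulVec_mulVec, hfix g hg]
  have h00 : (h : Matrix (Fin 2) (Fin 2) F) 0 0 = 1 := by
    have := congrFun hfix1 0
    simpa [Matrix.mulVec, dotProduct, Fin.sum_univ_two] using this
  have h10 : (h : Matrix (Fin 2) (Fin 2) F) 1 0 = 0 := by
    have := congrFun hfix1 1
    simpa [Matrix.mulVec, dotProduct, Fin.sum_univ_two] using this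
  have hdet := h.det_coe
  rw [Matrix.det_fin_two, h00, h10] at hdet
  have h11 : (h : Matrix (Fin 2) (Fin 2) F) 1 1 = 1 := by simpa using hdet
  refine ⟨(h : Matrix (Fin 2) (Fin 2) F) 0 1, ?_⟩
  apply Subtype.ext
  ext i j
  fin_cases i <;> fin_cases j <;> simp [xe, h00, h10, h11]

end Cfsg.Agent.Lib.Helper77.FrakL
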